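import Mathlib
import Groth.Prelude.Def_Cyc
import Groth.Agent.Lib.Helper7.PDeg.MainLe
import Groth.Agent.Lib.Helper7.DivFin.MV
import Groth.Agent.Lib.Lead.SecOrd0

set_option linter.style.haveILetI false
set_option linter.unusedVariables false
set_option linter.unusedSectionVars false
set_option autoImplicit false
set_option backward.isDefEq.respectTransparency.types false
set_option synthInstance.maxHeartbeats 400000
set_option maxHeartbeats 1600000

namespace Groth.Agent.Helper7.GFib

open CategoryTheory CategoryTheory.Limits AlgebraicGeometry TopologicalSpace Opposite IsLocalRing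
open Groth.Agent.Helper7.DivFin Groth.Agent.Helper7.FinDeg Groth.Agent.Helper7.FinPush
open Groth.Agent.Helper7.KL Groth.Agent.Helper7.PDeg

universe u

/-! helper7: helper7: the generic fibre of a dominant morphism of integral schemes: integrality, stalks, residue fields, residue degrees -/

section Gen

theorem residueDegree_eq_one_of_bijective {X Y : Scheme.{u}} (f : X ⟶ Y) (x : X)
    (hb : Function.Bijective (f.residueFieldMap x).hom) : f.residueDegree x = 1 := by
  unfold Scheme.Hom.residueDegree
  letI := (f.residueFieldMap x).hom.toAlgebra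
  rw [finrank_eq_one_iff_of_nonzero' (1 : X.residueField x) one_ne_zero]
  intro w
  obtain ⟨a, ha⟩ := hb.2 w
  exact ⟨a, by rw [Algebra.smul_def, mul_one]; exact ha⟩

theorem ordFrac_eq_zero_of_bijective (R K : Type u) [CommRing R] [Field K] [Algebra R K]
    (hb : Function.Bijective (algebraMap R K)) (φ : K) (hφ : φ ≠ 0) :
    CycAlg.ordFrac R K φ = 0 := by
  obtain ⟨a, ha⟩ := hb.2 φ
  obtain ⟨b, hb'⟩ := hb.2 φ⁻¹
  have h1 : a * b = 1 := by
    apply hb.1
    rw [map_mul, ha, hb', map_one, mul_inv_cancel₀ hφ]
  have h2 : b * a = 1 := by rw [mul_comm]; exact h1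
  have h3 := Groth.Agent.Lead.SecOrd.ordFrac_unit R K ⟨a, b, h1, h2⟩
  rw [← ha]
  exact h3

theorem ordAt_generic_eq_ordFrac {C : Scheme.{u}} [IsIntegral C] (x : C)
    (h : genericPoint C ⤳ x) (φ : C.functionField) :
    Cyc.ordAt x (genericPoint C) h ((C.residue (genericPoint C)).hom φ) =
      CycAlg.ordFrac (C.presheaf.stalk x) C.functionField φ := by
  have hinj : Function.Injective
      (Ideal.Quotient.mk (RingHom.ker (Cyc.specMap x (genericPoint C) h))) := by
    rw [injective_iff_map_eq_zero]
    intro a ha
    rw [Ideal.Quotient.eq_zero_iff_mem, RingHom.mem_ker] at ha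
    exact (map_eq_zero_iff _ (specMap_injective_of_generic x _ h rfl)).mp ha
  let e : C.presheaf.stalk x ≃+* Cyc.LocQuot x (genericPoint C) h :=
    RingEquiv.ofBijective (Ideal.Quotient.mk _) ⟨hinj, Ideal.Quotient.mk_surjective⟩
  let eK : C.functionField ≃+* C.residueField (genericPoint C) :=
    RingEquiv.ofBijective (C.residue (genericPoint C)).hom
      ⟨residue_injective_of_generic _ rfl, C.residue_surjective _⟩
  have hcomm : ∀ r, eK (algebraMap (C.presheaf.stalk x) C.functionField r) =
      algebraMap (Cyc.LocQuot x (genericPoint C) h) (C.residueField (genericPoint C)) (e r) := by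
    intro r
    rfl
  exact cyc_ordFrac_ringEquiv' e eK hcomm φ

theorem stalkMap_injective_of_generic {C X : Scheme.{u}} [IsIntegral X] (ι : C ⟶ X) (ξ₀ x' : C)
    (h0 : ι ξ₀ = genericPoint X) (hsp : ξ₀ ⤳ x') :
    Function.Injective (ι.stalkMap x').hom := by
  intro a b hab
  have h' : ι ξ₀ ⤳ ι x' := hsp.map ι.continuous
  have h1 := specMap_compat' ι x' ξ₀ hsp h' a
  have h2 := specMap_compat' ι x' ξ₀ hsp h' b
  rw [hab] at h1
  have h3 := (ι.residueFieldMap ξ₀).hom.injective (h1.trans h2.symm)
  exact specMap_injective_of_generic (ι x') (ι ξ₀) h' h0 h3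

end Gen

section Fibre

variable {X Y : Scheme.{u}} [IsIntegral X] [IsIntegral Y] (p : X ⟶ Y)

theorem exists_generic (hdom : p (genericPoint X) = genericPoint Y) :
    ∃ ξ₀ : p.fiber (genericPoint Y), p.fiberι (genericPoint Y) ξ₀ = genericPoint X := by
  have h : genericPoint X ∈ Set.range (p.fiberι (genericPoint Y)) := by
    rw [p.range_fiberι]
    exact hdom
  exact h

theorem specializes_of_generic (ξ₀ : p.fiber (genericPoint Y))
    (h0 : p.fiberι (genericPoint Y) ξ₀ = genericPoint X) (x' : p.fiber (genericPoint Y)) :
    ξ₀ ⤳ x' := by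
  have hind := (p.fiberι (genericPoint Y)).isEmbedding.isInducing
  rw [← hind.specializes_iff, h0]
  exact genericPoint_specializes _

theorem irreducibleSpace_fiber (hdom : p (genericPoint X) = genericPoint Y) :
    IrreducibleSpace (p.fiber (genericPoint Y)) := by
  obtain ⟨ξ₀, h0⟩ := exists_generic p hdom
  have hcl : closure ({ξ₀} : Set (p.fiber (genericPoint Y))) = Set.univ := by
    rw [Set.eq_univ_iff_forall]
    intro x'
    exact specializes_iff_mem_closure.mp (specializes_of_generic p ξ₀ h0 x')
  exact { isPreirreducible_univ := by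
            rw [← hcl]
            exact isIrreducible_singleton.closure.isPreirreducible
          toNonempty := ⟨ξ₀⟩ }

theorem stalkMap_bijective_fiber (hdom : p (genericPoint X) = genericPoint Y)
    (x' : p.fiber (genericPoint Y)) :
    Function.Bijective ((p.fiberι (genericPoint Y)).stalkMap x').hom := by
  obtain ⟨ξ₀, h0⟩ := exists_generic p hdom
  exact ⟨stalkMap_injective_of_generic _ ξ₀ x' h0 (specializes_of_generic p ξ₀ h0 x'),
    (p.fiberι (genericPoint Y)).stalkMap_surjective x'⟩

theorem isIntegral_fiber (hdom : p (genericPoint X) = genericPoint Y) :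
    IsIntegral (p.fiber (genericPoint Y)) := by
  haveI := irreducibleSpace_fiber p hdom
  haveI : ∀ x' : p.fiber (genericPoint Y),
      _root_.IsReduced ((p.fiber (genericPoint Y)).presheaf.stalk x') := by
    intro x'
    haveI : IsDomain ((p.fiber (genericPoint Y)).presheaf.stalk x') :=
      MulEquiv.isDomain (X.presheaf.stalk (p.fiberι (genericPoint Y) x'))
        (RingEquiv.ofBijective _ (stalkMap_bijective_fiber p hdom x')).symm.toMulEquiv
    infer_instance
  haveI : IsReduced (p.fiber (genericPoint Y)) := isReduced_of_isReduced_stalk _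
  exact isIntegral_of_irreducibleSpace_of_isReduced _

variable [hd : Fact (p (genericPoint X) = genericPoint Y)]

instance irreducibleSpace_fiber' : IrreducibleSpace (p.fiber (genericPoint Y)) :=
  irreducibleSpace_fiber p hd.out

instance isIntegral_fiber' : IsIntegral (p.fiber (genericPoint Y)) :=
  isIntegral_fiber p hd.out

instance isProper_fiberToSpec [IsProper p] :
    IsProper (p.fiberToSpecResidueField (genericPoint Y)) :=
  inferInstanceAs (IsProper (pullback.snd p (Y.fromSpecResidueField (genericPoint Y))))

theorem fiberι_generic :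
    p.fiberι (genericPoint Y) (genericPoint (p.fiber (genericPoint Y))) = genericPoint X := by
  obtain ⟨ξ₀, h0⟩ := exists_generic p hd.out
  have hcl : closure ({ξ₀} : Set (p.fiber (genericPoint Y))) = Set.univ := by
    rw [Set.eq_univ_iff_forall]
    intro x'
    exact specializes_iff_mem_closure.mp (specializes_of_generic p ξ₀ h0 x')
  have h1 : IsGenericPoint ξ₀ (Set.univ : Set (p.fiber (genericPoint Y))) := hcl
  rw [← h1.eq (genericPoint_spec (p.fiber (genericPoint Y)))]
  exact h0

theorem p_fiberι (x' : p.fiber (genericPoint Y)) :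
    p (p.fiberι (genericPoint Y) x') = genericPoint Y := by
  have h : p.fiberι (genericPoint Y) x' ∈ Set.range (p.fiberι (genericPoint Y)) := ⟨x', rfl⟩
  rw [p.range_fiberι] at h
  exact h

theorem fiberι_injective : Function.Injective (p.fiberι (genericPoint Y)) :=
  (p.fiberι (genericPoint Y)).isEmbedding.injective

theorem resMap_bijective_fiber (x' : p.fiber (genericPoint Y)) :
    Function.Bijective ((p.fiberι (genericPoint Y)).residueFieldMap x').hom :=
  residueFieldMap_bijective_of_surjective _ x'
    ((p.fiberι (genericPoint Y)).stalkMap_surjective x')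

theorem residueDegree_fiber (x' : p.fiber (genericPoint Y)) :
    (p.fiberToSpecResidueField (genericPoint Y)).residueDegree x' =
      p.residueDegree (p.fiberι (genericPoint Y) x') := by
  have h1 := residueDegree_comp' (p.fiberι (genericPoint Y)) p x'
  have h2 := residueDegree_comp' (p.fiberToSpecResidueField (genericPoint Y))
    (Y.fromSpecResidueField (genericPoint Y)) x'
  rw [← p.fiber_fac (genericPoint Y), h1] at h2
  rw [residueDegree_eq_one_of_bijective _ x' (resMap_bijective_fiber p x'), mul_one] at h2
  rw [residueDegree_eq_one_of_bijective (Y.fromSpecResidueField (genericPoint Y))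
    (p.fiberToSpecResidueField (genericPoint Y) x')
    (residueFieldMap_bijective_of_surjective _ _
      ((Y.fromSpecResidueField (genericPoint Y)).stalkMap_surjective _)), one_mul] at h2
  exact h2.symm

end Fibre

end Groth.Agent.Helper7.GFib
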