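import Mathlib
import Groth.Prelude.Def_Cyc
import Groth.Agent.Lib.Helper7.GFib.Basic

set_option linter.style.haveILetI false
set_option linter.unusedVariables false
set_option linter.unusedSectionVars false
set_option autoImplicit false
set_option backward.isDefEq.respectTransparency.types false
set_option synthInstance.maxHeartbeats 400000
set_option maxHeartbeats 1600000

namespace Groth.Agent.Helper7.GFib

open CategoryTheory CategoryTheory.Limits AlgebraicGeometry TopologicalSpace Opposite IsLocalRing
open Groth.Agent.Helper7.DivFin Groth.Agent.Helper7.FinDeg Groth.Agent.Helper7.FinPush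
open Groth.Agent.Helper7.KL Groth.Agent.Helper7.PDeg

universe u

/-! helper7: helper7: pushforward of a principal divisor along a proper dominant morphism of integral schemes dropping the dimension is zero (via the generic fibre, a proper curve) -/

section Push

variable {X Y : Scheme.{u}} [IsIntegral X] [IsIntegral Y] (p : X ⟶ Y)
  [hd : Fact (p (genericPoint X) = genericPoint Y)] (δX : X → ℤ) (δY : Y → ℤ)

theorem delta_ge (hδ : Cyc.DeltaCompat p δX δY) (x' : p.fiber (genericPoint Y)) :
    δY (genericPoint Y) ≤ δX (p.fiberι (genericPoint Y) x') := by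
  obtain ⟨n, -, hn⟩ := hδ (p.fiberι (genericPoint Y) x')
  rw [p_fiberι p x'] at hn
  omega

theorem delta_lt (hX : Cyc.IsDimFun X δX) (x' : p.fiber (genericPoint Y))
    (hne : x' ≠ genericPoint (p.fiber (genericPoint Y))) :
    δX (p.fiberι (genericPoint Y) x') < δX (genericPoint X) := by
  have hne' : genericPoint X ≠ p.fiberι (genericPoint Y) x' := by
    intro h
    apply hne
    apply fiberι_injective p
    rw [fiberι_generic p]
    exact h.symm
  exact (hX _ _ (genericPoint_specializes _) hne').1

theorem eq_of_specializes (hX : Cyc.IsDimFun X δX) (hδ : Cyc.DeltaCompat p δX δY)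
    (hn1 : δX (genericPoint X) = δY (genericPoint Y) + 1)
    (x' x'' : p.fiber (genericPoint Y))
    (hne : x' ≠ genericPoint (p.fiber (genericPoint Y))) (hsp : x' ⤳ x'') : x' = x'' := by
  by_contra hne2
  have h1 := (hX _ _ (hsp.map (p.fiberι (genericPoint Y)).continuous)
    (fun h => hne2 (fiberι_injective p h))).1
  have h2 := delta_ge p δX δY hδ x''
  have h3 := delta_lt p δX hX x' hne
  omega

theorem isClosed_of_ne_generic' (hX : Cyc.IsDimFun X δX) (hδ : Cyc.DeltaCompat p δX δY)
    (hn1 : δX (genericPoint X) = δY (genericPoint Y) + 1)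
    (x' : p.fiber (genericPoint Y))
    (hne : x' ≠ genericPoint (p.fiber (genericPoint Y))) :
    IsClosed ({x'} : Set (p.fiber (genericPoint Y))) := by
  rw [← closure_subset_iff_isClosed]
  intro x'' hx''
  have h := eq_of_specializes p δX δY hX hδ hn1 x' x'' hne
    (specializes_iff_mem_closure.mpr hx'')
  exact Set.mem_singleton_iff.mpr h.symm

theorem topologicalKrullDim_fiber_le (hX : Cyc.IsDimFun X δX) (hδ : Cyc.DeltaCompat p δX δY)
    (hn1 : δX (genericPoint X) = δY (genericPoint Y) + 1) :
    topologicalKrullDim (p.fiber (genericPoint Y)) ≤ 1 := by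
  unfold topologicalKrullDim
  rw [Order.krullDim_le_one_iff]
  intro T
  obtain ⟨g, hg⟩ := QuasiSober.sober T.isIrreducible T.isClosed
  by_cases hgη : g = genericPoint (p.fiber (genericPoint Y))
  · right
    have hT : (T : Set (p.fiber (genericPoint Y))) = Set.univ := by
      rw [← hg.def, hgη]
      exact (genericPoint_spec _).def
    intro T' _
    rw [SetLike.le_def]
    intro x _
    rw [← SetLike.mem_coe, hT]
    trivial
  · left
    intro T' hT'T
    obtain ⟨g', hg'⟩ := QuasiSober.sober T'.isIrreducible T'.isClosed
    have hg'T : g' ∈ (T : Set (p.fiber (genericPoint Y))) := SetLike.le_def.mp hT'T hg'.mem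
    have hsp : g ⤳ g' := by
      rw [specializes_iff_mem_closure, hg.def]
      exact hg'T
    have heq := eq_of_specializes p δX δY hX hδ hn1 g g' hgη hsp
    rw [SetLike.le_def]
    intro x hx
    rw [← SetLike.mem_coe, ← hg'.def, ← heq, hg.def]
    exact hx

theorem exists_phi (g : X.residueField (p.fiberι (genericPoint Y)
    (genericPoint (p.fiber (genericPoint Y))))) :
    ∃ φ : (p.fiber (genericPoint Y)).functionField,
      ((p.fiber (genericPoint Y)).residue (genericPoint (p.fiber (genericPoint Y)))).hom φ =
        ((p.fiberι (genericPoint Y)).residueFieldMap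
          (genericPoint (p.fiber (genericPoint Y)))).hom g :=
  (p.fiber (genericPoint Y)).residue_surjective _ _

theorem ordFrac_eq_ordAt (x' : p.fiber (genericPoint Y))
    (g : X.residueField (p.fiberι (genericPoint Y) (genericPoint (p.fiber (genericPoint Y)))))
    (φ : (p.fiber (genericPoint Y)).functionField)
    (hφ : ((p.fiber (genericPoint Y)).residue (genericPoint (p.fiber (genericPoint Y)))).hom φ =
        ((p.fiberι (genericPoint Y)).residueFieldMap
          (genericPoint (p.fiber (genericPoint Y)))).hom g)
    (h' : p.fiberι (genericPoint Y) (genericPoint (p.fiber (genericPoint Y))) ⤳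
      p.fiberι (genericPoint Y) x') :
    CycAlg.ordFrac ((p.fiber (genericPoint Y)).presheaf.stalk x')
      (p.fiber (genericPoint Y)).functionField φ =
      Cyc.ordAt (p.fiberι (genericPoint Y) x')
        (p.fiberι (genericPoint Y) (genericPoint (p.fiber (genericPoint Y)))) h' g := by
  have h : genericPoint (p.fiber (genericPoint Y)) ⤳ x' := genericPoint_specializes x'
  rw [← ordAt_generic_eq_ordFrac x' h φ, hφ]
  exact ordAt_transport (p.fiberι (genericPoint Y)) x' _ h h'
    ((p.fiberι (genericPoint Y)).stalkMap_surjective x') (resMap_bijective_fiber p _) g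

theorem ordFrac_generic_eq_zero {C : Scheme.{u}} [IsIntegral C] (x : C)
    (hx : x = genericPoint C) (φ : C.functionField) (hφ : φ ≠ 0) :
    CycAlg.ordFrac (C.presheaf.stalk x) C.functionField φ = 0 := by
  subst hx
  have hid : ∀ a : C.presheaf.stalk (genericPoint C),
      (C.presheaf.stalkSpecializes ((genericPoint_spec C).specializes trivial)).hom a = a := by
    intro a
    have h1 := TopCat.Presheaf.stalkSpecializes_refl C.presheaf (genericPoint C)
    exact DFunLike.congr_fun (congrArg CommRingCat.Hom.hom h1) a
  refine @ordFrac_eq_zero_of_bijective (C.presheaf.stalk (genericPoint C)) C.functionField _ _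
    (stalkFunctionFieldAlgebra C (genericPoint C)) ?_ φ hφ
  refine ⟨fun a b hab => ?_, fun b => ⟨b, hid b⟩⟩
  have h1 : a = b := by
    rw [← hid a, ← hid b]
    exact hab
  exact h1

/-- pushforward of a principal divisor along a proper dominant morphism of integral schemes which
drops the dimension is zero -/
theorem push_zero (hX : Cyc.IsSetup X δX) (hY : Cyc.IsSetup Y δY) [IsProper p]
    (hδ : Cyc.DeltaCompat p δX δY) (η : X) (hη : η = genericPoint X)
    (hn : δX η ≠ δY (genericPoint Y)) (f : X.residueField η) (hf : f ≠ 0)
    (α : AlgebraicCycle X ℤ) (hα : ⇑α = Cyc.divFun δX η f) :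
    AlgebraicCycle.map p δX δY α = 0 := by
  classical
  have hdX := hX.2.2
  have hdY := hY.2.2
  ext y
  change (∑ᶠ x ∈ p ⁻¹' {y}, α x * ((AlgebraicCycle.mapCoeff p δX δY x : ℕ) : ℤ)) = 0
  have hnm : δY (genericPoint Y) + 1 ≤ δX η := by
    obtain ⟨k, -, hk⟩ := hδ η
    have hpη : p η = genericPoint Y := by
      rw [hη]
      exact hd.out
    rw [hpη] at hk
    omega
  by_cases hy : y = genericPoint Y ∧ δX η = δY (genericPoint Y) + 1
  swap
  · apply finsum_mem_eq_zero_of_forall_eq_zero
    intro x hx
    have hpx : p x = y := hx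
    rw [hα]
    unfold Cyc.divFun AlgebraicCycle.mapCoeff
    by_cases h1 : η ⤳ x ∧ δX x + 1 = δX η
    · by_cases h2 : δX x = δY (p x)
      · exfalso
        apply hy
        rw [hpx] at h2
        have hyle : y = genericPoint Y := by
          by_contra hne
          have h3 := (hdY _ _ (genericPoint_specializes y) (Ne.symm hne)).1
          omega
        refine ⟨hyle, ?_⟩
        rw [hyle] at h2
        omega
      · rw [if_neg h2]
        simp
    · rw [dif_neg h1, zero_mul]
  obtain ⟨rfl, hn1⟩ := hy
  have hξ : p.fiberι (genericPoint Y) (genericPoint (p.fiber (genericPoint Y))) = η :=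
    (fiberι_generic p).trans hη.symm
  subst hξ
  have hn1' : δX (genericPoint X) = δY (genericPoint Y) + 1 := by
    rw [← hη]
    exact hn1
  have hdimC := topologicalKrullDim_fiber_le p δX δY hdX hδ hn1'
  obtain ⟨φ, hφ⟩ := exists_phi p f
  have hφ0 : φ ≠ 0 := by
    intro h0
    apply hf
    rw [h0, map_zero] at hφ
    exact (map_eq_zero_iff _ (resMap_bijective_fiber p _).1).mp hφ.symm
  have hmain := main_le (K := (Y.residueField (genericPoint Y)))
    (p.fiberToSpecResidueField (genericPoint Y)) hdimC φ hφ0
  rw [← p.range_fiberι (genericPoint Y), finsum_mem_range (fiberι_injective p), ← hmain]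
  refine finsum_congr (fun x' => ?_)
  by_cases hx' : x' = genericPoint (p.fiber (genericPoint Y))
  · subst hx'
    have hL : α (p.fiberι (genericPoint Y) (genericPoint (p.fiber (genericPoint Y)))) = 0 := by
      rw [hα]
      unfold Cyc.divFun
      rw [dif_neg]
      rintro ⟨-, h⟩
      omega
    rw [hL, zero_mul, ordFrac_generic_eq_zero _ rfl φ hφ0, mul_zero, finsum_zero]
  · have hcl := isClosed_of_ne_generic' p δX δY hdX hδ hn1' x' hx'
    have hlt := delta_lt p δX hdX x' hx'
    have hge := delta_ge p δX δY hδ x'
    have hsp : p.fiberι (genericPoint Y) (genericPoint (p.fiber (genericPoint Y))) ⤳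
        p.fiberι (genericPoint Y) x' :=
      (genericPoint_specializes x').map (p.fiberι (genericPoint Y)).continuous
    have hc1 : p.fiberι (genericPoint Y) (genericPoint (p.fiber (genericPoint Y))) ⤳
        p.fiberι (genericPoint Y) x' ∧ δX (p.fiberι (genericPoint Y) x') + 1 =
        δX (p.fiberι (genericPoint Y) (genericPoint (p.fiber (genericPoint Y)))) :=
      ⟨hsp, by omega⟩
    have hc2 : δX (p.fiberι (genericPoint Y) x') = δY (p (p.fiberι (genericPoint Y) x')) := by
      rw [p_fiberι]
      omega
    have h1 : α (p.fiberι (genericPoint Y) x') = Cyc.ordAt (p.fiberι (genericPoint Y) x')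
        (p.fiberι (genericPoint Y) (genericPoint (p.fiber (genericPoint Y)))) hsp f := by
      rw [hα]
      unfold Cyc.divFun
      rw [dif_pos hc1]
    have h2 : AlgebraicCycle.mapCoeff p δX δY (p.fiberι (genericPoint Y) x') =
        p.residueDegree (p.fiberι (genericPoint Y) x') := by
      unfold AlgebraicCycle.mapCoeff
      rw [if_pos hc2]
    rw [h1, h2, finsum_eq_if, if_pos hcl, residueDegree_fiber p x',
      ordFrac_eq_ordAt p x' f φ hφ hsp, mul_comm]

end Push

end Groth.Agent.Helper7.GFib
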